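import Mathlib
import Cfsg.Agent.Lib.Helper3.Zass.ZhDefs

/-!
# ZASS (S0690), sub-package [ZH-DEG]: the number of neighbours of a point is three times the
number of lines through it.
-/

set_option autoImplicit false

namespace Cfsg.Agent.Lib.Helper59.Zass

open Cfsg.Agent.Lib.Helper51.Zass Cfsg.Agent.Lib.Helper3.Zass

universe u

theorem pkgZhDeg : PkgZhDeg.{u} := by
  intro G _ _ hGeo P hP
  classical
  have fin : ∀ s : Set (Subgroup G), s.Finite := fun s => Set.toFinite s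
  -- a neighbour spans a line with `P`
  have hne : ∀ Q : Subgroup G, Nat.card ↥(P ⊔ Q) = 24 → Q ≠ P := by
    intro Q h24 hQP
    rw [hQP, sup_idem, hP] at h24
    omega
  have hline : ∀ Q : Subgroup G, Nat.card Q = 3 → Nat.card ↥(P ⊔ Q) = 24 → IsLine (P ⊔ Q) := by
    intro Q hQ h24
    rcases hGeo.pair P Q hP hQ (hne Q h24).symm with h | h
    · exact h
    · have h120 := hGeo.planeCard _ h
      omega
  rw [Set.ncard_eq_toFinset_card _ (fin _), Set.ncard_eq_toFinset_card _ (fin _)]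
  have hmaps : ∀ Q ∈ (fin {Q : Subgroup G | Nat.card Q = 3 ∧ Nat.card ↥(P ⊔ Q) = 24}).toFinset,
      (fun Q : Subgroup G => P ⊔ Q) Q ∈ (fin {L : Subgroup G | IsLine L ∧ P ≤ L}).toFinset := by
    intro Q hQ
    rw [Set.Finite.mem_toFinset] at hQ ⊢
    exact ⟨hline Q hQ.1 hQ.2, le_sup_left⟩
  rw [Finset.card_eq_sum_card_fiberwise hmaps]
  have hfiber : ∀ L ∈ (fin {L : Subgroup G | IsLine L ∧ P ≤ L}).toFinset,
      ((fin {Q : Subgroup G | Nat.card Q = 3 ∧ Nat.card ↥(P ⊔ Q) = 24}).toFinset.filter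
        (fun Q => P ⊔ Q = L)).card = 3 := by
    intro L hL
    rw [Set.Finite.mem_toFinset] at hL
    obtain ⟨hLline, hPL⟩ := hL
    have h4 := hGeo.line4 L hLline
    rw [Set.ncard_eq_toFinset_card _ (fin _)] at h4
    have hPmem : P ∈ (fin {Q : Subgroup G | Nat.card Q = 3 ∧ Q ≤ L}).toFinset := by
      rw [Set.Finite.mem_toFinset]
      exact ⟨hP, hPL⟩
    have heq : (fin {Q : Subgroup G | Nat.card Q = 3 ∧ Nat.card ↥(P ⊔ Q) = 24}).toFinset.filter
        (fun Q => P ⊔ Q = L) = (fin {Q : Subgroup G | Nat.card Q = 3 ∧ Q ≤ L}).toFinset.erase P := by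
      ext Q
      rw [Finset.mem_filter, Set.Finite.mem_toFinset, Finset.mem_erase, Set.Finite.mem_toFinset]
      constructor
      · rintro ⟨⟨hQ, h24⟩, hPQ⟩
        exact ⟨hne Q h24, hQ, by rw [← hPQ]; exact le_sup_right⟩
      · rintro ⟨hQP, hQ, hQL⟩
        have h1 := hGeo.lineGen L P Q hLline hP hQ hPL hQL (Ne.symm hQP)
        refine ⟨⟨hQ, ?_⟩, h1⟩
        rw [h1]
        exact hGeo.lineCard L hLline
    rw [heq, Finset.card_erase_of_mem hPmem, h4]
  rw [Finset.sum_const_nat hfiber, mul_comm]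

end Cfsg.Agent.Lib.Helper59.Zass
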