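import Mathlib
import Cfsg.Agent.Lib.Helper3.Zass.ZhDefs

/-!
# ZASS (S0690), sub-package [ZH-LCONST]: all points lie on the same number of lines.
-/

set_option autoImplicit false

namespace Cfsg.Agent.Lib.Helper59.Zass

open Cfsg.Agent.Lib.Helper51.Zass Cfsg.Agent.Lib.Helper3.Zass

universe u

/-- `IsLine` is invariant under isomorphism -/
theorem zh_isLine_congr {G : Type u} [Group G] {H H' : Subgroup G} (e : H ≃* H')
    (h : IsLine H) : IsLine H' := by
  obtain ⟨f, hf, hk⟩ := h
  refine ⟨f.comp e.symm.toMonoidHom, hf.comp e.symm.surjective, ?_⟩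
  rw [← MonoidHom.comap_ker]
  have h1 : Nat.card (Subgroup.comap e.symm.toMonoidHom f.ker) = Nat.card f.ker := by
    apply Nat.card_congr
    exact
      { toFun := fun x => ⟨e.symm x.1, x.2⟩
        invFun := fun y => ⟨e y.1, by
          show e.symm (e y.1) ∈ f.ker
          rw [MulEquiv.symm_apply_apply]; exact y.2⟩
        left_inv := fun x => by apply Subtype.ext; simp
        right_inv := fun y => by apply Subtype.ext; simp }
  rw [h1, hk]

theorem zh_conj_map_inv {G : Type u} [Group G] (x : G) (L : Subgroup G) :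
    (L.map (MulAut.conj x).toMonoidHom).map (MulAut.conj x⁻¹).toMonoidHom = L := by
  rw [Subgroup.map_map]
  have h1 : (MulAut.conj x⁻¹).toMonoidHom.comp (MulAut.conj x).toMonoidHom = MonoidHom.id G := by
    ext y
    simp [mul_assoc]
  rw [h1, Subgroup.map_id]

theorem zh_isLine_conj {G : Type u} [Group G] (x : G) (L : Subgroup G) (h : IsLine L) :
    IsLine (L.map (MulAut.conj x).toMonoidHom) :=
  zh_isLine_congr (L.equivMapOfInjective _ (MulAut.conj x).injective) h

theorem pkgZhLConst : PkgZhLConst.{u} := by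
  intro G _ _ hGeo P Q hP hQ
  obtain ⟨g, hg⟩ := hGeo.conj P Q hP hQ
  have himg : (fun L : Subgroup G => L.map (MulAut.conj g).toMonoidHom) ''
      {L : Subgroup G | IsLine L ∧ P ≤ L} = {L : Subgroup G | IsLine L ∧ Q ≤ L} := by
    ext L'
    constructor
    · rintro ⟨L, ⟨hL, hPL⟩, rfl⟩
      exact ⟨zh_isLine_conj g L hL, by rw [hg]; exact Subgroup.map_mono hPL⟩
    · rintro ⟨hL', hQL'⟩
      refine ⟨L'.map (MulAut.conj g⁻¹).toMonoidHom, ⟨zh_isLine_conj g⁻¹ L' hL', ?_⟩, ?_⟩
      · have h1 := Subgroup.map_mono (f := (MulAut.conj g⁻¹).toMonoidHom) hQL'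
        rw [hg, zh_conj_map_inv] at h1
        exact h1
      · have h1 := zh_conj_map_inv g⁻¹ L'
        rw [inv_inv] at h1
        exact h1
  rw [← himg]
  refine (Set.ncard_image_of_injective _ ?_).symm
  intro L L' h
  have h1 := congrArg (fun K : Subgroup G => K.map (MulAut.conj g⁻¹).toMonoidHom) h
  simp only [zh_conj_map_inv] at h1
  exact h1

end Cfsg.Agent.Lib.Helper59.Zass
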